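import Cfsg.Agent.E82.O8.Wd

/-!
# S3369, the row `Ω₈⁺(2)`: the letters and the certificates (helper94, generated)

Letters: `0..3` the basis `y₁..y₄` of the elementary abelian group of order 81, `4..7` the reflections of the Weyl group
of type `D₄` in its normaliser, `8` an element of order four, `9, 10, 11, 12` elements of order three, `13..17` root
elements, `18, 19` rotations, `20..31` the letters of `Sp₆(2)`, `32..37` involutions.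
-/

set_option autoImplicit false
set_option maxRecDepth 100000

namespace Cfsg.Agent.E82.O8

open Cfsg.Agent.H939.L64 (KK E2 LK rE)
open Cfsg.Agent.E82.Mach

/-- the letters as words in the root elements -/
def DW : List (List ℕ) :=
  [[5, 0, 23, 18], [18, 5, 0, 23], [11, 10, 13, 12], [13, 11, 10, 12], [18], [16, 4, 2, 0, 13, 15, 18, 9, 7, 6, 16, 15,
  13], [13], [12], [22, 14, 18, 17, 8, 7, 6, 16, 13, 15, 13, 11, 10, 13, 12], [18, 5], [23, 0, 11, 10, 13, 12], [23,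
  0, 12, 11], [23, 0, 13, 10], [14], [5], [9], [10], [11], [18, 16, 4, 2, 0, 13, 15, 18, 9, 7, 6, 16, 15, 13], [18,
  16, 4, 2, 0, 23, 16, 18, 8, 7, 6, 16, 13, 15, 12, 11, 10], [5], [9], [11, 10], [4], [6], [1], [7, 8], [0], [2, 3],
  [18], [14], [13, 12], [23, 18, 5, 0, 23, 18, 17, 14, 9, 6, 17, 14, 10, 12], [18, 5, 0, 23, 17, 14, 9, 6, 17, 14, 13,
  12, 11, 10, 13, 12], [11, 13], [0, 18], [5, 4, 14, 22, 17, 14], [17, 13, 14, 11]]

/-- the letters as words in the root elements -/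
def dw (j : ℕ) : List ℕ := DW.getD j []

/-- the tables of the letters -/
def GG : List (List (ℕ × ℕ)) :=
  [[(0, 1), (0, 4), (0, 5), (1, 0), (1, 1), (1, 5), (4, 0), (4, 4), (5, 0), (5, 1), (5, 5)], [(0, 0), (0, 1), (0, 4),
  (1, 0), (1, 4), (1, 5), (4, 0), (4, 1), (4, 4), (5, 1), (5, 5)], [(2, 3), (2, 6), (2, 7), (3, 2), (3, 3), (3, 7),
  (6, 2), (6, 6), (7, 2), (7, 3), (7, 7)], [(2, 2), (2, 3), (2, 6), (3, 2), (3, 6), (3, 7), (6, 2), (6, 3), (6, 6),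
  (7, 3), (7, 7)], [(1, 0), (4, 5)], [(0, 1), (0, 2), (0, 3), (0, 5), (0, 7), (1, 0), (1, 1), (1, 3), (1, 4), (1, 6),
  (1, 7), (2, 1), (2, 2), (2, 3), (2, 5), (2, 7), (3, 0), (3, 2), (3, 4), (3, 5), (3, 6), (4, 1), (4, 2), (4, 3), (4,
  5), (4, 7), (5, 0), (5, 2), (5, 4), (5, 5), (5, 6), (6, 0), (6, 1), (6, 3), (6, 4), (6, 6), (6, 7), (7, 0), (7, 2),
  (7, 4), (7, 5), (7, 6)], [(3, 2), (6, 7)], [(6, 3), (7, 2)], [(1, 2), (1, 3), (1, 5), (1, 7), (2, 0), (3, 5), (4,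
  0), (4, 2), (4, 5), (4, 6), (6, 0), (6, 5), (7, 5)], [(0, 0), (0, 1), (1, 0), (4, 5), (5, 4), (5, 5)], [(0, 0), (0,
  5), (1, 1), (1, 4), (2, 3), (2, 6), (2, 7), (3, 2), (3, 3), (3, 7), (4, 1), (5, 0), (6, 2), (6, 6), (7, 2), (7, 3),
  (7, 7)], [(0, 0), (0, 5), (1, 1), (1, 4), (2, 2), (2, 7), (3, 3), (3, 6), (4, 1), (5, 0), (6, 3), (7, 2)], [(0, 0),
  (0, 5), (1, 1), (1, 4), (2, 2), (2, 3), (3, 2), (4, 1), (5, 0), (6, 7), (7, 6), (7, 7)], [(2, 1), (5, 6)], [(0, 1),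
  (5, 4)], [(1, 2), (6, 5)], [(2, 3), (7, 6)], [(2, 7), (3, 6)], [(0, 0), (0, 1), (0, 2), (0, 3), (0, 5), (0, 7), (1,
  0), (1, 1), (1, 3), (1, 4), (1, 5), (1, 6), (1, 7), (2, 0), (2, 1), (2, 2), (2, 3), (2, 5), (2, 7), (3, 0), (3, 2),
  (3, 4), (3, 6), (4, 0), (4, 1), (4, 2), (4, 3), (4, 7), (5, 0), (5, 2), (5, 4), (5, 6), (6, 1), (6, 3), (6, 4), (6,
  5), (6, 6), (6, 7), (7, 0), (7, 2), (7, 4), (7, 6)], [(0, 0), (0, 1), (0, 2), (0, 3), (0, 5), (0, 7), (1, 0), (1,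
  3), (1, 4), (1, 6), (1, 7), (2, 0), (2, 1), (2, 2), (2, 3), (2, 5), (2, 7), (3, 1), (3, 2), (3, 4), (3, 5), (3, 6),
  (4, 0), (4, 2), (4, 3), (4, 5), (4, 7), (5, 0), (5, 1), (5, 2), (5, 4), (5, 5), (5, 6), (6, 0), (6, 3), (6, 4), (6,
  6), (6, 7), (7, 1), (7, 2), (7, 4), (7, 5), (7, 6)], [(0, 1), (5, 4)], [(1, 2), (6, 5)], [(2, 3), (2, 6), (2, 7),
  (3, 6), (7, 6)], [(0, 2), (6, 4)], [(1, 6), (2, 5)], [(0, 6), (2, 4)], [(1, 3), (1, 5), (1, 7), (3, 5), (7, 5)],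
  [(0, 5), (1, 4)], [(0, 3), (0, 4), (0, 7), (3, 4), (7, 4)], [(1, 0), (4, 5)], [(2, 1), (5, 6)], [(3, 2), (6, 2), (6,
  3), (6, 7), (7, 2)], [(0, 0), (0, 4), (2, 2), (2, 3), (2, 6), (4, 0), (4, 4), (6, 2), (6, 3), (6, 6), (7, 2), (7,
  3), (7, 6)], [(0, 0), (0, 1), (0, 4), (3, 3), (3, 7), (4, 0), (4, 1), (4, 4), (5, 0), (5, 1), (5, 4), (7, 3), (7,
  7)], [(2, 7), (3, 2), (3, 6), (3, 7), (6, 7)], [(0, 5), (1, 0), (1, 4), (1, 5), (4, 5)], [(0, 1), (0, 2), (4, 1),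
  (4, 2), (5, 0), (5, 1), (5, 4), (6, 0), (6, 2), (6, 4)], [(2, 1), (2, 7), (3, 1), (3, 2), (3, 6), (3, 7), (5, 1),
  (5, 2), (5, 6), (5, 7), (6, 1), (6, 7)]]

/-- the tables of the letters of the symplectic group -/
def GB : List (List (ℕ × ℕ)) := (GG.drop 20).take 12

theorem sub_GG : subOk GG dw = true := by decide +kernel

theorem sub_GB : subOk GB (fun j => dw (20 + j)) = true := by decide +kernel

/-- the oracle -/
noncomputable def okS : List ℕ → List ℕ → Bool := okG 8 GG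

/-- the elementary abelian group of order 81 -/
def E4 : List (List ℕ) := [[0], [1], [2], [3]]

/-- an isotropic line -/
def Z2 : List (List ℕ) := [[9, 3], [10]]

/-- a line -/
def Zb : List (List ℕ) := [[9], [10]]

/-- a line -/
def Zy : List (List ℕ) := [[3], [10]]

/-- the plane orthogonal to an isotropic point -/
def U4 : List (List ℕ) := [[3], [9], [10]]

/-- the extraspecial group -/
def Q3 : List (List ℕ) := [[18], [9], [10]]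

/-- the group of order 81 -/
def R4 : List (List ℕ) := [[18], [9], [3], [10]]

/-- a line -/
def Z1 : List (List ℕ) := [[0], [10]]

/-- a plane -/
def E3 : List (List ℕ) := [[0], [9], [10]]

/-- a group of order 27 and exponent 9 -/
def Xb : List (List ℕ) := [[9], [0, 18], [10]]

/-- a Sylow group of the symplectic group -/
def PP : List (List ℕ) := [[18], [0], [9], [10]]

/-- the generators -/
def GEN : List (List ℕ) := [[4], [13], [6], [7], [14], [15], [16], [17]]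

/-- the plane orthogonal to another isotropic point -/
def U5 : List (List ℕ) := [[9, 3], [10], [2]]

/-- the group of order 1944 -/
def PL : List (List ℕ) := [[18], [9], [3], [10], [0], [8, 0, 8, 8, 8]]

/-- the generators in the case of type 80 -/
def A8 : List (List ℕ) := [[0], [1], [2], [32], [33], [34], [35], [36], [37]]

/-- the letters of the symplectic group -/
def BL : List (List ℕ) := [[20], [21], [22], [23], [24], [25], [26], [27], [28], [29], [30], [31]]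

theorem gA : eqOk (okG 8 G24) [(dw 0).map tr] [dw 12]
    (([], [[0, 0]]), ([], [[0, 0]])) = true := by
  decide +kernel

theorem gC : eqOk (okG 8 G24) [(dw 12).map tr] [dw 11]
    (([], [[0]]), ([], [[0]])) = true := by
  decide +kernel

theorem gE : eqOk (okG 8 G24) [(dw 9).map tr] [dw 9]
    (([16, 4, 2, 0, 13, 15, 18, 9, 7, 6, 16, 15, 13, 18, 13, 16, 4, 2, 0, 13, 15, 18, 9, 7, 6, 16, 15, 13], [[0]]), ([16,
    4, 2, 0, 13, 15, 18, 9, 7, 6, 16, 15, 13, 13, 18, 16, 4, 2, 0, 13, 15, 18, 9, 7, 6, 16, 15, 13], [[0]])) = true := by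
  decide +kernel

theorem m4 : mapOk okS [4] E4 E4 [[1], [0], [2], [3]] = true := by decide +kernel

theorem m5 : mapOk okS [5] E4 E4 [[0], [2], [1], [3]] = true := by decide +kernel

theorem m6 : mapOk okS [6] E4 E4 [[0], [1], [3], [2]] = true := by decide +kernel

theorem m7 : mapOk okS [7] E4 E4 [[0], [1], [3, 3], [2, 2]] = true := by decide +kernel

theorem m18 : mapOk okS [18] E4 E4 [[2], [0], [1], [3]] = true := by decide +kernel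

theorem mu : mapOk okS [8, 8, 8] R4 R4 [[1, 1], [0], [2], [3]] = true := by decide +kernel

variable {g : ℕ → E2} (h : Sd okS g)

include h

theorem ne9 (h0 : g 4 ≠ 1) : g 9 ≠ 1 :=
  h.ne_one (w := [13, 15, 13, 9, 13, 15, 13, 13, 15, 9, 9, 15, 13]) (w' := [4]) (by decide +kernel) (by decide +kernel)
    (by rw [pw_single]; exact h0)

theorem ne10 (h0 : g 4 ≠ 1) : g 10 ≠ 1 :=
  h.ne_one (w := [4, 5, 6, 10, 10, 6, 5, 4, 5, 6, 10, 6, 5]) (w' := [9]) (by decide +kernel) (by decide +kernel)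
    (by rw [pw_single]; exact ne9 h h0)

theorem ne0 (h0 : g 4 ≠ 1) : g 0 ≠ 1 :=
  h.ne_one (w := [4, 0, 0, 4, 0]) (w' := [9]) (by decide +kernel) (by decide +kernel)
    (by rw [pw_single]; exact ne9 h h0)

theorem ne11 (h0 : g 4 ≠ 1) : g 11 ≠ 1 :=
  h.ne_one (w := [5, 7, 11, 11, 7, 5, 4, 5, 7, 11, 7, 5, 4]) (w' := [9]) (by decide +kernel) (by decide +kernel)
    (by rw [pw_single]; exact ne9 h h0)

theorem ne12 (h0 : g 4 ≠ 1) : g 12 ≠ 1 :=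
  h.ne_one (w := [5, 6, 12, 12, 6, 5, 4, 5, 6, 12, 6, 5, 4]) (w' := [9]) (by decide +kernel) (by decide +kernel)
    (by rw [pw_single]; exact ne9 h h0)

theorem p1 : qe (dz g [[9]]) + qe (dz g [[9]]) = 2 * (qe (dz g [[0]]) + qe (dz g [[0]])) :=
  h.par (a := [0]) (b := [1]) (e1 := (([], [[0]]), ([], [[0]]))) (e2 := (([4], [[0]]), ([4], [[0]]))) (e3 := (([5, 6, 7,
    5], [[0]]), ([5, 7, 6, 5], [[0]]))) (e4 := (([], [[0]]), ([], [[0]]))) (by decide +kernel)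

theorem p2 : qe (dz g [[9]]) + qe (dz g [[9]]) = 2 * (qe (dz g [[11]]) + qe (dz g [[11]])) :=
  h.par (a := [11]) (b := [0, 1, 2, 2, 3, 3]) (e1 := (([], [[0]]), ([], [[0]]))) (e2 := (([7], [[0]]), ([7], [[0]])))
    (e3 := (([5, 6, 7, 5], [[0, 0]]), ([5, 7, 6, 5], [[0, 0]]))) (e4 := (([5, 4, 7, 5], [[0, 0]]), ([5, 7, 4, 5], [[0,
    0]]))) (by decide +kernel)

theorem p3 : qe (dz g [[11]]) + qe (dz g [[12]]) = 2 * (qe (dz g [[10]]) + qe (dz g [[0]])) :=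
  h.par (a := [10]) (b := [3]) (e1 := (([], [[0]]), ([], [[0]]))) (e2 := (([4, 5, 6], [[0]]), ([6, 5, 4], [[0]]))) (e3
    := (([], [[0]]), ([], [[0]]))) (e4 := (([], [[0]]), ([], [[0]]))) (by decide +kernel)

theorem f1 : dz g [] + 3 * dz g Z2 = dz g [[10]] + dz g [[10]] + dz g [[10]] + dz g [[10]] :=
  h.pair (a := [10]) (b := [9, 3]) (ca := []) (cb := []) (c1 := []) (c2 := []) (c3 := []) (e0 := (([], [[0], [1]]), ([],
    [[0], [1]]))) (e1 := (([], [[0]]), ([], [[0]]))) (e2 := (([6, 7, 5, 6], [[0]]), ([6, 5, 7, 6], [[0]]))) (e3 :=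
    (([6, 5, 7], [[0, 0]]), ([7, 5, 6], [[0, 0]]))) (e4 := (([7, 5, 4, 6], [[0, 0]]), ([6, 4, 5, 7], [[0, 0]])))
    (by decide +kernel)

theorem f2 : dz g [] + 3 * dz g Zb = dz g [[10]] + dz g [[9]] + dz g [[9]] + dz g [[9]] :=
  h.pair (a := [10]) (b := [9]) (ca := []) (cb := []) (c1 := []) (c2 := []) (c3 := []) (e0 := (([], [[0], [1]]), ([],
    [[0], [1]]))) (e1 := (([], [[0]]), ([], [[0]]))) (e2 := (([], [[0]]), ([], [[0]]))) (e3 := (([5], [[0, 0]]), ([5],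
    [[0, 0]]))) (e4 := (([5, 4], [[0, 0]]), ([4, 5], [[0, 0]]))) (by decide +kernel)

theorem f3 : dz g [] + 3 * dz g Zy = dz g [[10]] + dz g [[0]] + dz g [[11]] + dz g [[12]] :=
  h.pair (a := [10]) (b := [3]) (ca := []) (cb := []) (c1 := []) (c2 := []) (c3 := []) (e0 := (([], [[0], [1]]), ([],
    [[0], [1]]))) (e1 := (([], [[0]]), ([], [[0]]))) (e2 := (([4, 5, 6], [[0]]), ([6, 5, 4], [[0]]))) (e3 := (([],
    [[0]]), ([], [[0]]))) (e4 := (([], [[0]]), ([], [[0]]))) (by decide +kernel)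

theorem f4 : dz g [[10]] + 3 * dz g U4 = dz g Zb + dz g Zy + dz g Z2 + dz g Z2 :=
  h.pair (a := [9]) (b := [3]) (ca := [[0]]) (cb := [[0]]) (c1 := []) (c2 := []) (c3 := []) (e0 := (([], [[0], [1],
    [2]]), ([], [[0], [1], [2]]))) (e1 := (([], [[0], [1]]), ([], [[0], [1]]))) (e2 := (([], [[0], [1]]), ([], [[0],
    [1]]))) (e3 := (([], [[0], [1]]), ([], [[0], [1]]))) (e4 := (([4], [[0, 0], [1]]), ([4], [[0, 0], [1]])))
    (by decide +kernel)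

theorem f5 : dz g [[10]] + 3 * dz g Q3 = dz g Zb + dz g Zb + dz g Zb + dz g Zb :=
  h.pair (a := [9]) (b := [18]) (ca := [[0]]) (cb := [[0]]) (c1 := [0, 0]) (c2 := []) (c3 := []) (e0 := (([], [[0], [1],
    [2]]), ([], [[0], [1], [2]]))) (e1 := (([], [[0], [1]]), ([], [[0], [1]]))) (e2 := (([8], [[0, 0], [1]]), ([8, 8,
    8], [[0, 0], [1]]))) (e3 := (([8, 0, 8], [[0, 0, 1], [1]]), ([8, 8, 8, 0, 0, 8, 8, 8], [[0, 0, 1], [1]]))) (e4 :=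
    (([8, 0], [[0, 1], [1]]), ([0, 0, 8, 8, 8], [[0, 1, 1], [1]]))) (by decide +kernel)

theorem f6 : dz g Zy + 3 * dz g R4 = dz g U4 + dz g U4 + dz g U4 + dz g U4 :=
  h.pair (a := [9]) (b := [18]) (ca := [[0], [1]]) (cb := [[0], [1]]) (c1 := [1, 1]) (c2 := []) (c3 := []) (e0 := (([],
    [[0], [1], [2], [3]]), ([], [[0], [1], [2], [3]]))) (e1 := (([], [[1], [0], [2]]), ([], [[1], [0], [2]]))) (e2 :=
    (([8], [[1], [0, 0], [2]]), ([8, 8, 8], [[1, 1], [0], [2]]))) (e3 := (([8, 0, 8], [[1], [0, 0, 2], [2]]), ([8, 8,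
    8, 0, 0, 8, 8, 8], [[1, 1, 2], [0], [2]]))) (e4 := (([8, 0], [[1], [0, 2], [2]]), ([0, 0, 8, 8, 8], [[1, 2, 2],
    [0], [2]]))) (by decide +kernel)

theorem f7 : dz g [] + 3 * dz g Z1 = dz g [[10]] + dz g [[0]] + dz g [[10]] + dz g [[9]] :=
  h.pair (a := [10]) (b := [0]) (ca := []) (cb := []) (c1 := []) (c2 := []) (c3 := []) (e0 := (([], [[0], [1]]), ([],
    [[0], [1]]))) (e1 := (([], [[0]]), ([], [[0]]))) (e2 := (([], [[0]]), ([], [[0]]))) (e3 := (([6, 7, 5, 4], [[0]]),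
    ([4, 5, 7, 6], [[0]]))) (e4 := (([5, 4, 6, 7], [[0]]), ([7, 6, 4, 5], [[0]]))) (by decide +kernel)

theorem f8 : dz g [[10]] + 3 * dz g E3 = dz g Zb + dz g Z1 + dz g Z1 + dz g Z1 :=
  h.pair (a := [9]) (b := [0]) (ca := [[0]]) (cb := [[0]]) (c1 := []) (c2 := []) (c3 := []) (e0 := (([], [[0], [1],
    [2]]), ([], [[0], [1], [2]]))) (e1 := (([], [[0], [1]]), ([], [[0], [1]]))) (e2 := (([], [[0], [1]]), ([], [[0],
    [1]]))) (e3 := (([4, 5], [[0, 1], [1]]), ([5, 4], [[0, 1, 1], [1]]))) (e4 := (([4], [[0, 0], [1]]), ([4], [[0, 0],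
    [1]]))) (by decide +kernel)

theorem f9 : dz g [[10]] + 3 * dz g Xb = dz g [[0, 18]] + dz g Zb + dz g [[0, 18]] + dz g [[0, 18]] :=
  h.pair (a := [0, 18]) (b := [9]) (ca := [[0]]) (cb := [[0]]) (c1 := [0]) (c2 := [0]) (c3 := []) (e0 := (([], [[0],
    [1], [2]]), ([], [[0], [1], [2]]))) (e1 := (([], [[0]]), ([], [[0], [0, 0, 0]]))) (e2 := (([], [[0], [1]]), ([],
    [[0], [1]]))) (e3 := (([4, 5], [[0, 1, 1]]), ([5, 4], [[0, 0, 0, 0], [0, 0, 0]]))) (e4 := (([0], [[0, 1, 1]]),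
    ([0, 0], [[0, 0, 0, 0], [0, 0, 0]]))) (by decide +kernel)

theorem f10 : dz g Zb + 3 * dz g PP = dz g E3 + dz g Q3 + dz g Xb + dz g Xb :=
  h.pair (a := [0]) (b := [18]) (ca := [[0], [1]]) (cb := [[0, 1], [1]]) (c1 := [0, 0, 1, 1]) (c2 := []) (c3 := []) (e0
    := (([], [[0], [1], [2], [3]]), ([], [[0], [1], [2], [3]]))) (e1 := (([], [[0], [1], [2]]), ([], [[0], [1],
    [2]]))) (e2 := (([], [[0], [1], [2]]), ([], [[0], [1], [2]]))) (e3 := (([], [[1], [0], [2]]), ([], [[1], [0],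
    [2]]))) (e4 := (([4], [[1, 1], [1, 1, 0], [2]]), ([4], [[0, 0, 1], [0, 0], [2]]))) (by decide +kernel)

theorem d1 : dz g U5 = dz g U4 :=
  h.deq (e := (([6, 7, 5, 6], [[2, 2], [0, 0, 1, 1, 2], [0]]), ([6, 5, 7, 6], [[2], [0, 0, 1, 1, 2, 2], [0, 0]])))
    (by decide +kernel)

theorem l1 : Fz g U4 ≤ Fz g Z2 :=
  h.le (cs := [[0, 1], [2]]) (by decide +kernel)

theorem l2 : Fz g U5 ≤ Fz g Z2 :=
  h.le (cs := [[0], [1]]) (by decide +kernel)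

theorem l3 : Fz g (U4 ++ U5) ≤ Fz g E4 :=
  h.le (cs := [[1, 1, 2, 2, 5], [1, 2, 2, 5], [5], [0]]) (by decide +kernel)

theorem l4 : Fz g E4 ≤ Fz g U4 :=
  h.le (cs := [[3], [0, 1, 1], [0, 1, 2]]) (by decide +kernel)

theorem l5 : Fz g R4 ≤ Fz g U4 :=
  h.le (cs := [[2], [1], [3]]) (by decide +kernel)

theorem l6 : Fz g PL ≤ Fz g [[4], [5]] :=
  h.le (cs := [[4, 0, 1, 4, 5, 4, 4, 5], [4, 5, 1, 5, 1, 4, 5, 5]]) (by decide +kernel)

theorem l7 : Fz g (PL ++ [[6], [7]]) ≤ Fz g GEN :=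
  h.le (cs := [[6, 0, 6, 0, 0, 6, 0], [0, 0, 5, 4, 7, 3, 5, 6, 5, 7, 5, 6, 2, 1], [6], [7], [5, 4, 4, 5, 4, 0, 4, 0],
    [1, 5, 6, 5, 1, 4, 7, 5, 6, 5, 7, 4, 4, 1], [2, 6, 2, 2], [2, 2, 7, 2]]) (by decide +kernel)

theorem l8 : Fz g ([18] :: E4) ≤ Fz g R4 :=
  h.le (cs := [[0], [1, 2, 2], [4], [1, 2, 3]]) (by decide +kernel)

theorem d3 : dz g ([6] :: E4) = dz g ([4] :: E4) :=
  h.deq (e := (([5, 4, 6, 5], [[0], [3], [4], [1], [2]]), ([5, 6, 4, 5], [[0], [3], [4], [1], [2]])))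
    (by decide +kernel)

theorem d4 : dz g ([7] :: E4) = dz g ([4] :: E4) :=
  h.deq (e := (([5, 4, 7, 5], [[0], [3], [4, 4], [1], [2, 2]]), ([5, 7, 4, 5], [[0], [3], [4, 4], [1], [2, 2]])))
    (by decide +kernel)

theorem d5 : dz g ([19] :: E4) = dz g ([18] :: E4) :=
  h.deq (e := (([6, 7, 5, 4], [[0], [2], [3], [1, 1], [4, 4]]), ([4, 5, 7, 6], [[0], [3, 3], [1], [2], [4, 4]])))
    (by decide +kernel)

theorem d6 : dz g ([5] :: [19] :: E4) = dz g ([4] :: [18] :: E4) :=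
  h.deq (e := (([6, 7, 5, 4], [[0], [1], [3], [4], [2, 2], [5, 5]]), ([4, 5, 7, 6], [[0], [1], [4, 4], [2], [3], [5,
    5]]))) (by decide +kernel)

theorem l9 : Fz g A8 ≤ Fz g GEN :=
  h.le (cs := [[5, 8, 1, 0, 8, 0, 6, 8, 6], [5, 7, 8, 5, 7, 6, 5, 1], [2, 7, 3, 2, 7, 5, 7, 2, 7], [2, 7, 5, 7, 2, 7, 3,
    7, 2], [0, 1, 8, 1, 0, 8, 1, 0, 8, 5], [7, 6, 8, 5, 7, 8, 5, 1], [7, 4, 3, 2, 7, 5, 2, 7], [7, 3, 2, 7, 5, 2, 7,
    4]]) (by decide +kernel)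

theorem l10 : Fz g R4 ≤ Fz g Q3 :=
  h.le (cs := [[0], [1], [3]]) (by decide +kernel)

theorem l13 : Fz g GEN ≤ Fz g [[19]] :=
  h.le (cs := [[0, 6, 2, 1, 2, 6, 1, 5, 4, 5, 1, 2, 6, 1, 5, 4, 5, 1, 6, 2, 1, 5, 3, 7, 2, 6, 1, 5, 4, 5, 1, 6, 2, 7, 3,
    5, 1, 5, 7, 6, 1, 5, 3, 2, 1, 0, 1, 2, 3, 5, 1, 6, 7, 5, 6, 2, 1, 2, 6, 0, 3, 7, 5, 7, 3, 2, 6, 5, 6, 2, 3, 7, 2,
    6, 5, 6, 2, 7, 3, 6, 2, 1, 2, 6, 2, 7, 3, 1, 3, 7, 3, 7, 6]]) (by decide +kernel)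

theorem l11 : Fz g BL ≤ Fz g Q3 :=
  h.le (cs := [[9, 3, 10, 11, 10, 9, 10, 4, 11, 10, 3], [9, 0], [1, 2, 10, 9, 11, 10, 11, 9, 10, 11, 10, 7, 4]])
    (by decide +kernel)

theorem l12 : Fz g ([3] :: BL) ≤ Fz g GEN :=
  h.le (cs := [[10], [11], [11, 2, 0, 12, 11, 0, 12, 2, 11], [11, 2, 12, 0, 11, 12, 0, 2, 11], [1], [2], [2, 3, 11, 0,
    2, 3, 0, 11, 2], [2, 5, 11, 0, 0, 2, 0, 11, 2]]) (by decide +kernel)

theorem b0 : dz g [[20, 21, 29, 30, 31, 30, 21, 29, 20, 28]] = dz g [[0]] :=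
  h.deq (e := (([21, 28, 30, 31, 30, 29], [[0]]), ([29, 30, 31, 30, 28, 21], [[0]]))) (by decide +kernel)

theorem b3 : dz g [[20, 21, 29, 30, 31, 30, 27, 29, 30, 31, 30, 21, 26, 27]] = dz g [[9]] :=
  h.deq (e := (([21, 28, 30, 31, 30, 21, 26, 29], [[0]]), ([29, 26, 21, 30, 31, 30, 28, 21], [[0]])))
    (by decide +kernel)

theorem b9 : dz g [[31, 24, 23, 30, 29, 31, 24, 23, 30, 29, 31, 24, 23, 30, 29]] = dz g [[10]] :=
  h.deq (e := (([26, 30, 29, 20, 31], [[0, 0]]), ([31, 20, 29, 30, 26], [[0, 0]]))) (by decide +kernel)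

theorem cA : ∀ w ∈ [[0], [1], [2], [3]], cf (pw g w) = dz g [[0]] :=
  h.cfl (cs := [(([], [[0]]), ([], [[0]])), (([4], [[0]]), ([4], [[0]])), (([4, 5], [[0]]), ([5, 4], [[0]])), (([4, 5,
    6], [[0]]), ([6, 5, 4], [[0]]))]) (by decide +kernel)

theorem cE : ∀ w ∈ [[0, 1], [0, 2], [0, 3], [1, 2], [1, 3], [2, 3], [0, 1, 1], [0, 2, 2], [0, 3, 3], [1, 2, 2], [1, 3, 3], [2, 3, 3]], cf (pw g w) = dz g [[9]] :=
  h.cfl (cs := [(([5, 6, 7, 5], [[0]]), ([5, 7, 6, 5], [[0]])), (([5, 6, 7], [[0]]), ([7, 6, 5], [[0]])), (([5, 7],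
    [[0]]), ([7, 5], [[0]])), (([5, 4, 6, 7], [[0]]), ([7, 6, 4, 5], [[0]])), (([5, 4, 7], [[0]]), ([7, 4, 5],
    [[0]])), (([5, 4, 7, 5], [[0]]), ([5, 7, 4, 5], [[0]])), (([], [[0]]), ([], [[0]])), (([5], [[0]]), ([5], [[0]])),
    (([5, 6], [[0]]), ([6, 5], [[0]])), (([5, 4], [[0]]), ([4, 5], [[0]])), (([5, 4, 6], [[0]]), ([6, 4, 5], [[0]])),
    (([5, 4, 6, 5], [[0]]), ([5, 6, 4, 5], [[0]]))]) (by decide +kernel)

theorem cB : ∀ w ∈ [[0, 1, 2, 3], [0, 1, 2, 2, 3, 3], [0, 1, 1, 2, 3, 3], [0, 1, 1, 2, 2, 3]], cf (pw g w) = dz g [[11]] :=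
  h.cfl (cs := [(([], [[0]]), ([], [[0]])), (([7], [[0]]), ([7], [[0]])), (([7, 5], [[0]]), ([5, 7], [[0]])), (([7, 5,
    4], [[0, 0]]), ([4, 5, 7], [[0, 0]]))]) (by decide +kernel)

theorem cC : ∀ w ∈ [[0, 1, 2, 3, 3], [0, 1, 2, 2, 3], [0, 1, 1, 2, 3], [0, 1, 1, 2, 2, 3, 3]], cf (pw g w) = dz g [[12]] :=
  h.cfl (cs := [(([], [[0]]), ([], [[0]])), (([6], [[0]]), ([6], [[0]])), (([6, 5], [[0]]), ([5, 6], [[0]])), (([6, 5,
    4], [[0, 0]]), ([4, 5, 6], [[0, 0]]))]) (by decide +kernel)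

end Cfsg.Agent.E82.O8
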