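import Cfsg.Agent.E82.O8.Dat

/-!
# S3369, the row `Ω₈⁺(2)`: the certificates with the triality (helper94, generated)

The letter `99` is an element of order three that induces the triality.
-/

set_option autoImplicit false
set_option maxRecDepth 100000

namespace Cfsg.Agent.E82.O8

open Cfsg.Agent.H939.L64 (KK E2 LK rE)
open Cfsg.Agent.E82.Mach

/-- the oracle -/
noncomputable def okU : List ℕ → List ℕ → Bool := okK dw

/-- a `3`-group -/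
def KG : List (List ℕ) := [[0, 1, 1, 2, 2], [99, 19]]

/-- a `3`-group -/
def KM : List (List ℕ) := [[0, 1, 3, 3], [99, 19], [0, 1, 1, 2, 2]]

/-- a `3`-group -/
def SS : List (List ℕ) := [[0, 1, 3, 3], [0, 1, 1, 2, 2]]

/-- a `3`-group -/
def BS : List (List ℕ) := [[0, 1, 1, 2, 2, 3], [0, 1, 1, 2, 2]]

/-- a `3`-group -/
def T0 : List (List ℕ) := [[0, 1, 1, 2, 2], [99]]

/-- a `3`-group -/
def T1 : List (List ℕ) := [[0, 1, 1, 2, 2], [99, 1, 2, 2]]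

/-- a `3`-group -/
def T2 : List (List ℕ) := [[0, 1, 1, 2, 2], [99, 1, 2, 2, 1, 2, 2]]

/-- a `3`-group -/
def N0 : List (List ℕ) := [[0, 1, 1, 2, 2, 3], [99], [0, 1, 1, 2, 2]]

/-- a `3`-group -/
def N1 : List (List ℕ) := [[0, 1, 1, 2, 2, 3], [99, 1, 2, 2], [0, 1, 1, 2, 2]]

/-- a `3`-group -/
def N2 : List (List ℕ) := [[0, 1, 1, 2, 2, 3], [99, 1, 2, 2, 1, 2, 2], [0, 1, 1, 2, 2]]

/-- a `3`-group -/
def M0 : List (List ℕ) := [[1, 2, 2], [99], [0, 1, 1, 2, 2, 3], [0, 1, 1, 2, 2]]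

theorem n4 : mapOk okU [4] E4 E4 [[1], [0], [2], [3]] = true := by decide +kernel

theorem n5 : mapOk okU [5] E4 E4 [[0], [2], [1], [3]] = true := by decide +kernel

theorem n6 : mapOk okU [6] E4 E4 [[0], [1], [3], [2]] = true := by decide +kernel

theorem n19 : mapOk okU [19] E4 E4 [[2, 2], [0, 0], [1], [3]] = true := by decide +kernel

theorem n99 : mapOk okU [99] E4 E4 [[0, 0, 1, 1, 2, 2, 3, 3], [0, 0, 1, 1, 2, 3], [0, 0, 1, 2, 2, 3], [0, 1, 1, 2, 2, 3]] = true := by decide +kernel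

variable {g : ℕ → E2} (h : Sd okU g)

include h

theorem tB : dz g [[11]] = dz g [[0]] :=
  h.deq (e := (([99], [[0, 0]]), ([99, 99], [[0, 0]]))) (by decide +kernel)

theorem tC : dz g [[12]] = dz g [[0]] :=
  h.deq (e := (([99, 99], [[0, 0]]), ([99, 99, 99, 99], [[0, 0]]))) (by decide +kernel)

theorem t1 : dz g [[0, 1, 1, 2, 2]] = dz g [[10]] :=
  h.deq (e := (([6, 7, 5, 4], [[0, 0]]), ([4, 5, 7, 6], [[0, 0]]))) (by decide +kernel)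

theorem t2 : dz g SS = dz g Z2 :=
  h.deq (e := (([7], [[1], [0]]), ([7], [[1], [0]]))) (by decide +kernel)

theorem t3 : dz g BS = dz g Zy :=
  h.deq (e := (([6, 7, 5, 4], [[0, 0, 1], [1, 1]]), ([4, 5, 7, 6], [[0, 0, 1, 1], [1, 1]]))) (by decide +kernel)

theorem k1 : dz g [] + 3 * dz g KG = dz g [[99, 19]] + dz g [[10]] + dz g [[99, 19]] + dz g [[99, 19]] :=
  h.pair (a := [99, 19]) (b := [0, 1, 1, 2, 2]) (ca := []) (cb := []) (c1 := []) (c2 := []) (c3 := []) (e0 := (([],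
    [[0], [1]]), ([], [[0], [1]]))) (e1 := (([], [[0]]), ([], [[0]]))) (e2 := (([6, 7, 5, 4], [[0, 0]]), ([4, 5, 7,
    6], [[0, 0]]))) (e3 := (([0, 2], [[0]]), ([2, 2, 0, 0], [[0]]))) (e4 := (([3], [[0]]), ([3, 3], [[0]])))
    (by decide +kernel)

theorem k2 : dz g [[0, 1, 1, 2, 2]] + 3 * dz g KM = dz g KG + dz g Z2 + dz g KG + dz g KG :=
  h.pair (a := [99, 19]) (b := [0, 1, 3, 3]) (ca := [[0]]) (cb := [[0]]) (c1 := []) (c2 := []) (c3 := []) (e0 := (([],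
    [[0], [1], [2]]), ([], [[0], [1], [2]]))) (e1 := (([], [[1], [0]]), ([], [[1], [0]]))) (e2 := (([7], [[1], [0]]),
    ([7], [[1], [0]]))) (e3 := (([1], [[1], [0, 1]]), ([1, 1], [[0, 0, 1], [0]]))) (e4 := (([0], [[1], [0, 1]]), ([0,
    0], [[0, 0, 1], [0]]))) (by decide +kernel)

theorem k3a : dz g [] + 3 * dz g T0 = dz g [[99]] + dz g [[10]] + dz g [[99]] + dz g [[99]] :=
  h.pair (a := [99]) (b := [0, 1, 1, 2, 2]) (ca := []) (cb := []) (c1 := []) (c2 := []) (c3 := []) (e0 := (([], [[0],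
    [1]]), ([], [[0], [1]]))) (e1 := (([], [[0]]), ([], [[0]]))) (e2 := (([6, 7, 5, 4], [[0, 0]]), ([4, 5, 7, 6], [[0,
    0]]))) (e3 := (([3, 3], [[0]]), ([3, 3, 3, 3], [[0]]))) (e4 := (([3], [[0]]), ([3, 3], [[0]])))
    (by decide +kernel)

theorem k4a : dz g [[0, 1, 1, 2, 2]] + 3 * dz g N0 = dz g T0 + dz g Zy + dz g T0 + dz g T0 :=
  h.pair (a := [99]) (b := [0, 1, 1, 2, 2, 3]) (ca := [[0]]) (cb := [[0]]) (c1 := [0]) (c2 := []) (c3 := []) (e0 :=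
    (([], [[0], [1], [2]]), ([], [[0], [1], [2]]))) (e1 := (([], [[1], [0]]), ([], [[1], [0]]))) (e2 := (([6, 7, 5,
    4], [[0, 0, 1], [1, 1]]), ([4, 5, 7, 6], [[0, 0, 1, 1], [1, 1]]))) (e3 := (([0], [[1], [0, 1]]), ([0, 0], [[0, 0,
    1], [0]]))) (e4 := (([1], [[1], [0, 1, 1]]), ([1, 1], [[0, 1], [0]]))) (by decide +kernel)

theorem k3b : dz g [] + 3 * dz g T1 = dz g [[99, 1, 2, 2]] + dz g [[10]] + dz g [[99, 1, 2, 2]] + dz g [[99, 1, 2, 2]] :=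
  h.pair (a := [99, 1, 2, 2]) (b := [0, 1, 1, 2, 2]) (ca := []) (cb := []) (c1 := []) (c2 := []) (c3 := []) (e0 := (([],
    [[0], [1]]), ([], [[0], [1]]))) (e1 := (([], [[0]]), ([], [[0]]))) (e2 := (([6, 7, 5, 4], [[0, 0]]), ([4, 5, 7,
    6], [[0, 0]]))) (e3 := (([3, 3], [[0]]), ([3, 3, 3, 3], [[0]]))) (e4 := (([3], [[0]]), ([3, 3], [[0]])))
    (by decide +kernel)

theorem k4b : dz g [[0, 1, 1, 2, 2]] + 3 * dz g N1 = dz g T1 + dz g Zy + dz g T1 + dz g T1 :=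
  h.pair (a := [99, 1, 2, 2]) (b := [0, 1, 1, 2, 2, 3]) (ca := [[0]]) (cb := [[0]]) (c1 := [0]) (c2 := []) (c3 := [])
    (e0 := (([], [[0], [1], [2]]), ([], [[0], [1], [2]]))) (e1 := (([], [[1], [0]]), ([], [[1], [0]]))) (e2 := (([6,
    7, 5, 4], [[0, 0, 1], [1, 1]]), ([4, 5, 7, 6], [[0, 0, 1, 1], [1, 1]]))) (e3 := (([0], [[1], [0, 1]]), ([0, 0],
    [[0, 0, 1], [0]]))) (e4 := (([1], [[1], [0, 1, 1]]), ([1, 1], [[0, 1], [0]]))) (by decide +kernel)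

theorem k3c : dz g [] + 3 * dz g T2 = dz g [[99, 1, 2, 2, 1, 2, 2]] + dz g [[10]] + dz g [[99, 1, 2, 2, 1, 2, 2]] + dz g [[99, 1, 2, 2, 1, 2, 2]] :=
  h.pair (a := [99, 1, 2, 2, 1, 2, 2]) (b := [0, 1, 1, 2, 2]) (ca := []) (cb := []) (c1 := []) (c2 := []) (c3 := []) (e0
    := (([], [[0], [1]]), ([], [[0], [1]]))) (e1 := (([], [[0]]), ([], [[0]]))) (e2 := (([6, 7, 5, 4], [[0, 0]]), ([4,
    5, 7, 6], [[0, 0]]))) (e3 := (([3, 3], [[0]]), ([3, 3, 3, 3], [[0]]))) (e4 := (([3], [[0]]), ([3, 3], [[0]])))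
    (by decide +kernel)

theorem k4c : dz g [[0, 1, 1, 2, 2]] + 3 * dz g N2 = dz g T2 + dz g Zy + dz g T2 + dz g T2 :=
  h.pair (a := [99, 1, 2, 2, 1, 2, 2]) (b := [0, 1, 1, 2, 2, 3]) (ca := [[0]]) (cb := [[0]]) (c1 := [0]) (c2 := []) (c3
    := []) (e0 := (([], [[0], [1], [2]]), ([], [[0], [1], [2]]))) (e1 := (([], [[1], [0]]), ([], [[1], [0]]))) (e2 :=
    (([6, 7, 5, 4], [[0, 0, 1], [1, 1]]), ([4, 5, 7, 6], [[0, 0, 1, 1], [1, 1]]))) (e3 := (([0], [[1], [0, 1]]), ([0,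
    0], [[0, 0, 1], [0]]))) (e4 := (([1], [[1], [0, 1, 1]]), ([1, 1], [[0, 1], [0]]))) (by decide +kernel)

theorem k5 : dz g BS + 3 * dz g M0 = dz g N0 + dz g U4 + dz g N1 + dz g N2 :=
  h.pair (a := [99]) (b := [1, 2, 2]) (ca := [[0, 1], [1]]) (cb := [[0], [1]]) (c1 := []) (c2 := []) (c3 := []) (e0 :=
    (([], [[0], [1], [2], [3]]), ([], [[0], [1], [2], [3]]))) (e1 := (([], [[1], [0], [2]]), ([], [[1], [0], [2]])))
    (e2 := (([6, 7, 5, 4], [[1, 1, 2], [0], [2, 2]]), ([4, 5, 7, 6], [[1], [0, 0, 2, 2], [2, 2]]))) (e3 := (([], [[1],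
    [0], [2]]), ([], [[1], [0], [2]]))) (e4 := (([], [[1], [0], [2]]), ([], [[1], [0], [2]]))) (by decide +kernel)

theorem k6 : qe (dz g [[99, 1, 2, 2]]) + qe (dz g [[99, 1, 2, 2, 1, 2, 2]]) = 2 * (qe (dz g [[99]]) + qe (dz g [[9]])) :=
  h.par (a := [99]) (b := [1, 2, 2]) (e1 := (([], [[0]]), ([], [[0]]))) (e2 := (([5, 4], [[0]]), ([4, 5], [[0]]))) (e3
    := (([], [[0]]), ([], [[0]]))) (e4 := (([], [[0]]), ([], [[0]]))) (by decide +kernel)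

theorem k7 : dz g E4 + 3 * dz g ([19] :: [99] :: E4) = dz g ([99] :: E4) + dz g ([18] :: E4) + dz g ([99, 19] :: E4) + dz g ([99, 19] :: E4) :=
  h.pair (a := [99]) (b := [19]) (ca := [[0, 0, 1, 1, 2, 2, 3, 3], [0, 0, 1, 1, 2, 3], [0, 0, 1, 2, 2, 3], [0, 1, 1, 2,
    2, 3]]) (cb := [[2, 2], [0, 0], [1], [3]]) (c1 := []) (c2 := []) (c3 := []) (e0 := (([], [[0], [1], [2], [3], [4],
    [5]]), ([], [[0], [1], [2], [3], [4], [5]]))) (e1 := (([], [[0], [1], [2], [3], [4]]), ([], [[0], [1], [2], [3],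
    [4]]))) (e2 := (([6, 7, 5, 4], [[0], [2], [3], [1, 1], [4, 4]]), ([4, 5, 7, 6], [[0], [3, 3], [1], [2], [4, 4]])))
    (e3 := (([], [[0], [1], [2], [3], [4]]), ([], [[0], [1], [2], [3], [4]]))) (e4 := (([5], [[0], [1], [3], [2],
    [4]]), ([5], [[0], [1], [3], [2], [4]]))) (by decide +kernel)

theorem q1 : Fz g E4 ≤ Fz g SS :=
  h.le (cs := [[0, 1, 3, 3], [0, 1, 1, 2, 2]]) (by decide +kernel)

theorem q2 : Fz g KM ≤ Fz g SS :=
  h.le (cs := [[0], [2]]) (by decide +kernel)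

theorem q3 : Fz g M0 ≤ Fz g SS :=
  h.le (cs := [[0, 0, 2, 2, 3, 3], [3]]) (by decide +kernel)

end Cfsg.Agent.E82.O8
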